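import Mathlib
import Cfsg.Agent.Lib.MultC.Co3.OutD

/-! generated certificate -/

set_option autoImplicit false
set_option maxRecDepth 100000
set_option Elab.async false

namespace CfsgLib.MultC.Co3.O

open CfsgLib.Comput CfsgLib.MultC

open CfsgLib.Fischer

theorem v1 : wordsOK 276 9 U0 V1 [[0x40203010105010501], [0x40406010102010303]] = true := by decide +kernel
theorem v2 : wordsOK 276 9 U1 V2 [[0x908080909090a0708090a0a], [0x90808090a090a09090a]] = true := by decide +kernel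
theorem v3 : wordsOK 276 9 U2 V3 [[0xc0c0b0e0e0b0c0d0c], [0xb0e0e0d0d0d0e0b0c0b0e]] = true := by decide +kernel
theorem v4 : wordsOK 276 9 U3 V4 [[0x111211120f0f1011120f], [0x11120f0f120f0f100f]] = true := by decide +kernel
theorem v5 : wordsOK 276 9 U4 V5 [[0x141314131414], [0x1514151414131316]] = true := by decide +kernel
theorem v6 : wordsOK 276 9 U5 V6 [[0x207070a0a0e0b0e0e100f121314141817]] = true := by decide +kernel
theorem lb : Nat.ble 495766656000 (lbVal (stepH W) 276 (toLB L0) []) = true := by decide +kernel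
theorem lv0 : levOK (stepH W) 276 lev0 (letL (lev0 :: L1)) = true := by decide +kernel
theorem lv1 : levOK (stepH W) 276 lev1 (letL (lev1 :: L2)) = true := by decide +kernel
theorem lv2 : levOK (stepH W) 276 lev2 (letL (lev2 :: L3)) = true := by decide +kernel
theorem lv3 : levOK (stepH W) 276 lev3 (letL (lev3 :: L4)) = true := by decide +kernel
theorem lv4 : levOK (stepH W) 276 lev4 (letL (lev4 :: L5)) = true := by decide +kernel
theorem lv5 : levOK (stepH W) 276 lev5 (letL (lev5 :: [])) = true := by decide +kernel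
theorem hl : D.lOK (stepH W) (baseL L0) = true := by decide +kernel
theorem hb : D.basic (stepH W) 276 (baseL L0) = true := by decide +kernel
theorem a0 : eqOn (stepH W) (baseL L0) (1 :: [0x50403, 0x8080908, 0xc0b0b0b, 0x100f0f, 0x151414, 26], [0x50403, 0x8080908, 0xc0b0b0b, 0x100f0f, 0x151414, 26] ++ [27]) = true := by decide +kernel
theorem a1 : powOK (stepH W) (baseL L0) 27 ma = true := by decide +kernel
theorem l1 : powOK (stepH W) (baseL L0) D.wl ml = true := by decide +kernel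
noncomputable def ta1 : CT :=
  (.br 0 [27, 0x1b1b, 0x1b1b1b1b, 0x1b1b1b1b1b1b1b1b, 0x1c1c1c1c1c1c1c] 1 0 0 0 (.ch 134 0 (.frc 27 0 33 0 (.frc 0x1b1b1b1b1b1b1b 0 150 0 (.frc 0x1c1c 0 165 0 (.frc 28 3 93 0 (.frc 0x1c1c1c1c1c 0 19 0 (.leaf 0)))))) (.ch 1 0x4060102 (.frc 27 0 146 0x908090a (.ref 27 0 0)) (.ch 2 0x6020404 (.frc 27 0 68 0x80809 (.ref 27 0 0)) (.ch 3 0x6010501 (.frc 27 0 225 0x807 (.ref 27 0 0)) (.ch 4 0x1060105 (.frc 27 0 45 0x90a090908 (.ref 0x1b1b 0 0)) (.ch 7 0x405050504 (.frc 27 0 275 0x70a090908 (.ref 27 0 0)) (.ch 9 0x602 (.frc 27 0 53 0x80909 (.ref 0x1b1b 0 0)) (.ch 10 0x4040506 (.frc 27 0 264 0x909080908 (.ref 0x1b1b 0 0)) (.ch 11 0x4060404 (.frc 27 0 169 0x70a0a090809 (.ref 27 0 0)) (.ch 13 0x30304 (.frc 27 0 179 0xa0a0909 (.ref 0x1b1b 0 0)) (.ch 27 0x40204 (.frc 27 0 180 0x909080707 (.ref 0x1b1b1b1b1b1b 0 0)) (.ch 35 0x4050301 (.frc 27 0 258 0x80807 (.ref 27 0 0)) .nil)))))))))))))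
theorem ca1 : CT.chk (stepH W) 276 (msk ma) [0] ta1 false L0 [] [] = true := by decide +kernel
noncomputable def tl2 : CT :=
  (.br 0 [2, 0x202, 0x2020202, 0x50505] 1 0 0 0 (.ch 134 0 (.frc 2 0 33 0 (.frc 2 0 150 0 (.frc 2 0 165 0 (.frc 0x202 0 93 0 (.frc 0x202 0 19 0 (.leaf 0)))))) (.ch 0 0x504030406 (.frc 2 0 192 0x9090a070807 (.ref 2 0 0)) (.ch 1 0x4060102 (.frc 2 0 136 0xa0908070809 (.ref 0x2020202 0 0)) (.ch 2 0x6020404 (.frc 2 0 24 0xa070809 (.ref 0x2020202 0 0)) (.ch 3 0x6010501 (.frc 2 0 58 0x8090a090a (.ref 0x202 0 0)) (.ch 6 0x40404 (.frc 2 0 263 0xa0a0708 (.ref 0x20202 0 0)) (.ch 8 0x4020403 (.frc 2 0 112 0xa0a0708 (.ref 0x20202 0 0)) (.ch 9 0x602 (.frc 2 0 159 0 (.frc 2 0 244 0 (.frc 2 0 23 0 (.frc 0x202 0 199 0 (.frc 0x202 0 101 0 (.leaf 1)))))) (.ch 11 0x4060404 (.frc 2 0 226 0x90908070a (.ref 2 0 0)) (.ch 12 0x5060604 (.frc 2 0 253 0xa09080807 (.ref 2 0 0)) (.ch 14 0x10506 (.frc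 2 0 254 0x90a09080909 (.ref 2 0 0)) (.ch 15 0x60601 (.frc 2 0 65 0x8070a09090a (.ref 0x202 0 0)) (.ch 17 0x406010503 (.frc 2 0 249 0xa0908070809 (.ref 0x2020202 0 0)) (.ch 18 0x10606 (.frc 2 0 274 0x90a09080909 (.ref 2 0 0)) (.ch 20 0x40304 (.frc 2 0 34 0x8080808 (.ref 2 0 0)) (.ch 28 0x201 (.frc 2 0 114 0x8080908 (.ref 2 0 0)) (.ch 29 0x40301 (.frc 2 0 268 0x70a0909 (.ref 0x202 0 0)) (.ch 30 0x404050402 (.frc 2 0 40 0xa090807070a (.ref 2 0 0)) (.ch 36 0x3030106 (.frc 2 0 211 0x70a09090a (.ref 0x2020202 0 0)) (.ch 38 0x60101 (.frc 2 0 142 0x708090a0a (.ref 0x2020202 0 0)) (.ch 45 0x60102 (.frc 2 0 120 0x807070707 (.ref 2 0 0)) (.ch 50 0x60404 (.frc 2 0 97 0x80808090a (.ref 0x2020202 0 0)) (.ch 51 0x4030404 (.frc 2 0 196 0x9090908 (.ref 2 0 0)) (.ch 53 0x2030101 (.frc 2 0 210 0x808 (.ref 0x202 0 0)) (.cy 60 2 (.ch 69 0x402040301 (.frc 2 0 273 0x70a0909 (.ref 0x2020202 0 0)) .nil)))))))))))))))))))))))))))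
theorem cl2 : CT.chk (stepH W) 276 (msk ml) D.V tl2 false L0 [] [] = true := by decide +kernel
theorem cand0 : allIn (D.candOK (stepH W) 276) 0 44 = true := by decide +kernel

end CfsgLib.MultC.Co3.O
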